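import Mathlib
import Groth.Prelude.Def_DualLC
import Groth.Prelude.Def_EGA4b
import Groth.Agent.Cutoff.Finite
import Groth.Agent.FlatDepth.Serre
import Groth.Agent.FlatDepth.Fibre
import Groth.Agent.StrictCat.Basic
import Groth.Agent.Cohen.FormallyCatenary
import Groth.Agent.Cohen.Ratliff
import Groth.Agent.AdicBasics.Dimension

/-!
The invariant `cutoff` along flat local homomorphisms.
-/

set_option autoImplicit false
set_option linter.style.haveILetI false
universe u

open IsLocalRing TensorProduct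

set_option backward.isDefEq.respectTransparency false

namespace Groth.Agent.CutoffCpl

/-- Depth of an extended module at a prime of a flat algebra. -/
theorem depth_baseChange {A B : Type u} [CommRing A] [CommRing B] [IsNoetherianRing A] [IsNoetherianRing B]
    [Algebra A B] [Module.Flat A B] (M : Type u) [AddCommGroup M] [Module A M] [Module.Finite A M]
    (P : Ideal B) [P.IsPrime] (p : Ideal A) [p.IsPrime] (hp : P.comap (algebraMap A B) = p) :
    LocCoh.depth (Localization.AtPrime P) (LocalizedModule P.primeCompl (B ⊗[A] M)) =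
      LocCoh.depth (Localization.AtPrime p) (LocalizedModule p.primeCompl M) +
        LocCoh.depth (EGA4.FibLocRing A B P) (EGA4.FibLocRing A B P) := by
  subst hp
  let p := P.comap (algebraMap A B)
  haveI : P.LiesOver p := ⟨rfl⟩
  letI := Localization.AtPrime.algebraOfLiesOver p P
  obtain ⟨h1, h2, h3⟩ := FlatDepth.atPrime_setup P p
  haveI := h1
  haveI := h2
  haveI := FlatDepth.isLocalRing_fibLocRing (A := A) P
  let R := Localization.AtPrime p
  let S := Localization.AtPrime P
  haveI : IsNoetherianRing R := IsLocalization.isNoetherianRing p.primeCompl _ inferInstance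
  haveI : IsNoetherianRing S := IsLocalization.isNoetherianRing P.primeCompl _ inferInstance
  haveI : Module.Finite R (LocalizedModule p.primeCompl M) :=
    Module.Finite.of_isLocalizedModule p.primeCompl (LocalizedModule.mkLinearMap p.primeCompl M)
  have h := FlatDepth.depth_tensor (R := R) (S := S) S (LocalizedModule p.primeCompl M)
  let e : S ⊗[R] LocalizedModule p.primeCompl M ≃ₗ[S] LocalizedModule P.primeCompl (B ⊗[A] M) :=
    TensorProduct.AlgebraTensorModule.congr (LinearEquiv.refl S S) (LocalizedModule.equivTensorProduct p.primeCompl M) ≪≫ₗ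
      TensorProduct.AlgebraTensorModule.cancelBaseChange A R S S M ≪≫ₗ
      (TensorProduct.AlgebraTensorModule.cancelBaseChange A B S S M).symm ≪≫ₗ
      (LocalizedModule.equivTensorProduct P.primeCompl (B ⊗[A] M)).symm
  refine Eq.trans (LocH.idealDepth_congr (R := S) (M := S ⊗[R] LocalizedModule p.primeCompl M)
    (N := LocalizedModule P.primeCompl (B ⊗[A] M)) e _).symm (h.trans (congrArg₂ (· + ·) rfl ?_))
  rw [← LocH.depth_eq_of_surjective (A := S) (B := EGA4.FibLocRing A B P) Ideal.Quotient.mk_surjective]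
  exact LocH.idealDepth_congr (Submodule.quotEquivOfEq _ _ (by rw [smul_eq_mul, Ideal.mul_top, h3])) _

/-- Quotient of a flat algebra over a quotient. -/
theorem flat_quotient {A B : Type u} [CommRing A] [CommRing B] [Algebra A B] [Module.Flat A B] (p : Ideal A) :
    Module.Flat (A ⧸ p) (B ⧸ p.map (algebraMap A B)) :=
  Module.Flat.of_linearEquiv (Algebra.TensorProduct.quotIdealMapEquivQuotTensor B p).toLinearEquiv

/-- The fibre local ring as a localisation of the closed subscheme. -/
theorem dim_fibLocRing {A B : Type u} [CommRing A] [CommRing B] [Algebra A B] (P : Ideal B) [P.IsPrime]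
    (P' : Ideal (B ⧸ (P.comap (algebraMap A B)).map (algebraMap A B))) [P'.IsPrime]
    (hP' : P'.comap (Ideal.Quotient.mk _) = P) :
    ringKrullDim (EGA4.FibLocRing A B P) = (P'.height : WithBot ℕ∞) := by
  let I := (P.comap (algebraMap A B)).map (algebraMap A B)
  have hsub : Algebra.algebraMapSubmonoid (B ⧸ I) P.primeCompl = P'.primeCompl := by
    ext z
    obtain ⟨z, rfl⟩ := Ideal.Quotient.mk_surjective z
    have hiff : Ideal.Quotient.mk I z ∈ P' ↔ z ∈ P := by rw [← Ideal.mem_comap, hP']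
    refine ⟨?_, fun hz => ⟨z, fun h => hz (hiff.2 h), rfl⟩⟩
    rintro ⟨w, hw, hwz⟩
    intro h
    refine hw ?_
    show w ∈ P
    rw [← hP', Ideal.mem_comap]
    exact hwz ▸ h
  let T := Localization.AtPrime P ⧸ I.map (algebraMap B (Localization.AtPrime P))
  haveI : IsLocalization.AtPrime T P' := by
    show IsLocalization P'.primeCompl T
    rw [← hsub]
    infer_instance
  rw [← IsLocalization.AtPrime.ringKrullDim_eq_height P' T]
  exact ringKrullDim_eq_of_ringEquiv (Ideal.quotEquivOfEq (by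
    rw [Ideal.map_map, ← IsScalarTower.algebraMap_eq]))

theorem depth_le_dim {T : Type u} [CommRing T] [IsLocalRing T] [IsNoetherianRing T] :
    ((LocCoh.depth T T : ℕ∞) : WithBot ℕ∞) ≤ ringKrullDim T := by
  obtain ⟨n, hn⟩ := SerreReg.exists_dim_nat T
  have h := InvFin.depth_le_supportDim (A := T) T (n := n) (by rw [Module.supportDim_self_eq_ringKrullDim, hn])
  rw [hn, ← WithBot.coe_natCast]
  exact WithBot.coe_le_coe.2 h

/-- Height in a smaller closed subscheme. -/
theorem height_map_le_of_le {B : Type u} [CommRing B] {I J Q : Ideal B} [Q.IsPrime] (hIJ : I ≤ J) (hJQ : J ≤ Q) :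
    (Q.map (Ideal.Quotient.mk J)).height ≤ (Q.map (Ideal.Quotient.mk I)).height := by
  haveI : (Q.map (Ideal.Quotient.mk J)).IsPrime :=
    Ideal.map_isPrime_of_surjective Ideal.Quotient.mk_surjective (by rw [Ideal.mk_ker]; exact hJQ)
  haveI : (Q.map (Ideal.Quotient.mk I)).IsPrime :=
    Ideal.map_isPrime_of_surjective Ideal.Quotient.mk_surjective (by rw [Ideal.mk_ker]; exact hIJ.trans hJQ)
  let e := Catenary.surjectiveEmbedding (Ideal.Quotient.factor hIJ) (Ideal.Quotient.factor_surjective hIJ)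
  have h := Order.height_le_height_apply_of_strictMono e e.strictMono ⟨Q.map (Ideal.Quotient.mk J), inferInstance⟩
  have he : e ⟨Q.map (Ideal.Quotient.mk J), inferInstance⟩ = ⟨Q.map (Ideal.Quotient.mk I), inferInstance⟩ := by
    refine PrimeSpectrum.ext ?_
    show (Q.map (Ideal.Quotient.mk J)).comap (Ideal.Quotient.factor hIJ) = Q.map (Ideal.Quotient.mk I)
    ext z
    obtain ⟨z, rfl⟩ := Ideal.Quotient.mk_surjective z
    rw [Ideal.mem_comap, Ideal.Quotient.factor_mk, Ideal.mem_quotient_iff_mem_sup, Ideal.mem_quotient_iff_mem_sup,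
      sup_eq_left.2 hJQ, sup_eq_left.2 (hIJ.trans hJQ)]
  rw [he, ← PrimeSpectrum.height_eq_orderHeight, ← PrimeSpectrum.height_eq_orderHeight] at h
  exact h

/-- Heights add in catenary equidimensional local rings. -/
theorem height_le_add {S : Type u} [CommRing S] [IsLocalRing S] [IsNoetherianRing S] (hS : CAlg.IsCatenary S)
    (heq : EGA4.IsEquidim S) (P Q : Ideal S) [P.IsPrime] [Q.IsPrime] (hPQ : P ≤ Q) :
    Q.height ≤ P.height + (Q.map (Ideal.Quotient.mk P)).height := by
  obtain ⟨R, hR, hRP⟩ := Ideal.exists_minimalPrimes_le (bot_le : ⊥ ≤ P)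
  haveI := hR.1.1
  obtain ⟨a, b, x, ha, hb, hx, hab, -⟩ := Cohen.exists_height_add hS hRP
  obtain ⟨b', c, y, hb', hc, hy, hbc, -⟩ := Cohen.exists_height_add hS hPQ
  have h1 := StrictCat.height_add_dim_quotient_le (A := S) ⟨Q, inferInstance⟩
  change (Q.height : WithBot ℕ∞) + ringKrullDim (S ⧸ Q) ≤ ringKrullDim S at h1
  rw [← heq R hR, ha, hc] at h1
  rw [hb] at hb'
  have hbb : b = b' := by exact_mod_cast hb'
  replace h1 : Q.height + (c : ℕ∞) ≤ (a : ℕ∞) := WithBot.coe_le_coe.1 (by rw [WithBot.coe_add]; exact h1)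
  have h2 : (x : ℕ∞) ≤ P.height := by
    have h := height_map_le_of_le (Q := P) (bot_le : (⊥ : Ideal S) ≤ R) hRP
    rw [hx] at h
    refine h.trans (le_of_eq ?_)
    exact RingEquiv.height_map (RingEquiv.quotientBot S).symm P
  rw [hy]
  refine le_trans ?_ (add_le_add h2 le_rfl)
  have h3 : Q.height ≤ ((a - c : ℕ) : ℕ∞) := by
    generalize Q.height = z at h1 ⊢
    induction z with
    | top => simp at h1
    | coe z =>
      have : z + c ≤ a := by exact_mod_cast h1
      exact_mod_cast (show z ≤ a - c by omega)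
  refine h3.trans ?_
  exact_mod_cast (show a - c ≤ x + y by omega)

variable {A B : Type u} [CommRing A] [CommRing B] [Algebra A B] [IsNoetherianRing A] [IsNoetherianRing B]
  [Module.Flat A B] (M : Type u) [AddCommGroup M] [Module A M] [Module.Finite A M] (I : Ideal A)

/-- The invariant does not increase along faithfully flat algebras. -/
theorem cutoff_le [Module.FaithfullyFlat A B] :
    Dual2.cutoff B (I.map (algebraMap A B)) (B ⊗[A] M) ≤ Dual2.cutoff A I M := by
  simp only [Dual2.cutoff, le_iInf_iff]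
  intro p q hpq hIp hIq
  obtain ⟨Q, hQp, hQ, hQmin⟩ := FlatDepth.exists_minimal_over (A := A) (B := B) q.asIdeal
  haveI := hQp
  haveI : Q.LiesOver q.asIdeal := ⟨hQ.symm⟩
  obtain ⟨P₁, hP₁Q, hP₁p, hP₁⟩ := Ideal.exists_ideal_le_liesOver_of_le (p := p.asIdeal) (q := q.asIdeal) Q hpq
  haveI := hP₁p
  haveI := hP₁
  obtain ⟨P, hP, hPle⟩ := Ideal.exists_minimalPrimes_le (Ideal.map_le_iff_le_comap.2 (hP₁.over.le))
  haveI := hP.1.1
  have hPc : P.comap (algebraMap A B) = p.asIdeal :=
    le_antisymm ((Ideal.comap_mono hPle).trans hP₁.over.ge) (Ideal.map_le_iff_le_comap.1 hP.1.2)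
  have hPQ : P ≤ Q := hPle.trans hP₁Q
  refine le_trans (iInf_le_of_le ⟨P, inferInstance⟩ (iInf_le_of_le ⟨Q, hQp⟩ (iInf_le_of_le hPQ (iInf_le_of_le
    (fun hle => hIp (hPc ▸ Ideal.map_le_iff_le_comap.1 hle)) (iInf_le_of_le
    (Ideal.map_le_iff_le_comap.2 (hQ.symm ▸ hIq)) le_rfl))))) ?_
  rw [Cutoff.height_Ici_eq]
  erw [Cutoff.height_Ici_eq (p := (⟨P, inferInstance⟩ : PrimeSpectrum B)) (q := ⟨Q, hQp⟩) hPQ,
    depth_baseChange M P p.asIdeal hPc]
  haveI := FlatDepth.isLocalRing_fibLocRing (A := A) P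
  have hd0 : LocCoh.depth (EGA4.FibLocRing A B P) (EGA4.FibLocRing A B P) = 0 := by
    have h := depth_le_dim (T := EGA4.FibLocRing A B P)
    rw [FlatDepth.ringKrullDim_fibLocRing_eq_zero P (hPc.symm ▸ hP)] at h
    exact nonpos_iff_eq_zero.1 (by exact_mod_cast h)
  rw [hd0, add_zero]
  refine add_le_add le_rfl ?_
  let J := p.asIdeal.map (algebraMap A B)
  refine (height_map_le_of_le (I := J) hP.1.2 hPQ).trans ?_
  let q' := q.asIdeal.map (Ideal.Quotient.mk p.asIdeal)
  let Q' := Q.map (Ideal.Quotient.mk J)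
  haveI : q'.IsPrime := Ideal.map_isPrime_of_surjective Ideal.Quotient.mk_surjective (Ideal.mk_ker.trans_le hpq)
  haveI : Q'.IsPrime :=
    Ideal.map_isPrime_of_surjective Ideal.Quotient.mk_surjective (Ideal.mk_ker.trans_le (hP.1.2.trans hPQ))
  have hQ'c : Q'.comap (Ideal.Quotient.mk J) = Q := by
    rw [Ideal.comap_map_quotientMk, sup_eq_right.2 (hP.1.2.trans hPQ)]
  haveI : Q'.LiesOver q' := ⟨by
    ext x
    obtain ⟨x, rfl⟩ := Ideal.Quotient.mk_surjective x
    show Ideal.Quotient.mk p.asIdeal x ∈ q' ↔ Ideal.Quotient.mk J (algebraMap A B x) ∈ Q'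
    rw [← Ideal.mem_comap, ← Ideal.mem_comap (f := Ideal.Quotient.mk J), hQ'c,
      Ideal.comap_map_quotientMk, sup_eq_right.2 hpq]
    exact (SetLike.ext_iff.1 hQ x).symm⟩
  refine (Ideal.height_le_height_add_of_liesOver q' Q').trans ?_
  have hmin : Q'.map (Ideal.Quotient.mk (q'.map (algebraMap (A ⧸ p.asIdeal) (B ⧸ J)))) ∈
      minimalPrimes ((B ⧸ J) ⧸ q'.map (algebraMap (A ⧸ p.asIdeal) (B ⧸ J))) := by
    have hK : q'.map (algebraMap (A ⧸ p.asIdeal) (B ⧸ J)) = (q.asIdeal.map (algebraMap A B)).map (Ideal.Quotient.mk J) := by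
      rw [Ideal.map_map, Ideal.map_map]
      rfl
    have hle : q'.map (algebraMap (A ⧸ p.asIdeal) (B ⧸ J)) ≤ Q' := hK.le.trans (Ideal.map_mono hQmin.1.2)
    refine ⟨⟨Ideal.map_isPrime_of_surjective Ideal.Quotient.mk_surjective (Ideal.mk_ker.trans_le hle), bot_le⟩,
      fun T hT hTle => ?_⟩
    haveI := hT.1
    refine Ideal.map_le_iff_le_comap.2 (Ideal.map_le_iff_le_comap.2 (hQmin.2 ⟨?_, ?_⟩ ?_))
    · exact Ideal.IsPrime.comap (Ideal.Quotient.mk J)
    · refine Ideal.map_le_iff_le_comap.1 (hK ▸ ?_)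
      exact fun z hz => Ideal.mem_comap.2 (by rw [Ideal.Quotient.eq_zero_iff_mem.2 hz]; exact zero_mem _)
    · refine (Ideal.comap_mono ((Ideal.comap_mono hTle).trans (le_of_eq ?_))).trans hQ'c.le
      rw [Ideal.comap_map_quotientMk, sup_eq_right.2 hle]
  rw [Ideal.height_eq_zero_iff.2 hmin, add_zero]

/-- A lower bound when the fibres satisfy `(S_n)` and the closed subschemes stay equidimensional. -/
theorem min_le_cutoff [IsLocalRing B] (hB : CAlg.IsCatenary B) (n : ℕ)
    (hfib : ∀ (p : Ideal A) [p.IsPrime], LocCoh.HasSk n (p.Fiber B) (p.Fiber B))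
    (heq : ∀ (p : Ideal A) [p.IsPrime], p.map (algebraMap A B) ≠ ⊤ → EGA4.IsEquidim (B ⧸ p.map (algebraMap A B))) :
    min ((n : ℕ∞) + 1) (Dual2.cutoff A I M) ≤ Dual2.cutoff B (I.map (algebraMap A B)) (B ⊗[A] M) := by
  simp only [Dual2.cutoff, le_iInf_iff]
  intro P Q hPQ hIP hIQ
  let p : PrimeSpectrum A := PrimeSpectrum.comap (algebraMap A B) P
  let q : PrimeSpectrum A := PrimeSpectrum.comap (algebraMap A B) Q
  have hpq : p ≤ q := Ideal.comap_mono hPQ
  rw [depth_baseChange M P.asIdeal p.asIdeal rfl, Cutoff.height_Ici_eq]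
  haveI := FlatDepth.isLocalRing_fibLocRing (A := A) P.asIdeal
  obtain ⟨f, hf⟩ := SerreReg.exists_dim_nat (EGA4.FibLocRing A B P.asIdeal)
  have hS := FlatDepth.condS_fibLocRing n P.asIdeal (hfib p.asIdeal)
  rw [FlatDepth.condS_iff hf] at hS
  haveI : (Q.asIdeal.map (Ideal.Quotient.mk P.asIdeal)).IsPrime :=
    Ideal.map_isPrime_of_surjective Ideal.Quotient.mk_surjective (Ideal.mk_ker.trans_le hPQ)
  have h1 : (1 : ℕ∞) ≤ (Q.asIdeal.map (Ideal.Quotient.mk P.asIdeal)).height := by
    rw [Order.one_le_iff_ne_zero, ne_eq, Ideal.height_eq_zero_iff, IsDomain.minimalPrimes_eq_singleton_bot,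
      Set.mem_singleton_iff]
    intro h0
    refine hIP (hIQ.trans fun z hz => Ideal.Quotient.eq_zero_iff_mem.1 ?_)
    exact Ideal.mem_bot.1 (h0 ▸ Ideal.mem_map_of_mem _ hz)
  by_cases hnf : n ≤ f
  · rw [min_eq_left hnf] at hS
    exact (min_le_left _ _).trans (add_le_add (hS.trans le_add_self) h1)
  · rw [min_eq_right (by omega)] at hS
    refine (min_le_right _ _).trans ((iInf_le_of_le p (iInf_le_of_le q (iInf_le_of_le hpq (iInf_le_of_le
      (fun hle => hIP (Ideal.map_le_iff_le_comap.2 hle)) (iInf_le_of_le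
      (Ideal.map_le_iff_le_comap.1 hIQ) le_rfl))))).trans ?_)
    rw [Cutoff.height_Ici_eq, add_assoc]
    refine add_le_add le_rfl ?_
    -- heights in the closed subscheme over `p`
    let J := p.asIdeal.map (algebraMap A B)
    have hJP : J ≤ P.asIdeal := Ideal.map_comap_le
    haveI : Nontrivial (B ⧸ J) :=
      Ideal.Quotient.nontrivial_iff.2 fun h => P.2.ne_top (top_le_iff.1 (h ▸ hJP))
    haveI : IsLocalRing (B ⧸ J) := .of_surjective' (Ideal.Quotient.mk J) Ideal.Quotient.mk_surjective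
    let P' := P.asIdeal.map (Ideal.Quotient.mk J)
    let Q' := Q.asIdeal.map (Ideal.Quotient.mk J)
    haveI : P'.IsPrime := Ideal.map_isPrime_of_surjective Ideal.Quotient.mk_surjective (Ideal.mk_ker.trans_le hJP)
    haveI : Q'.IsPrime :=
      Ideal.map_isPrime_of_surjective Ideal.Quotient.mk_surjective (Ideal.mk_ker.trans_le (hJP.trans hPQ))
    let q' := q.asIdeal.map (Ideal.Quotient.mk p.asIdeal)
    haveI : q'.IsPrime := Ideal.map_isPrime_of_surjective Ideal.Quotient.mk_surjective (Ideal.mk_ker.trans_le hpq)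
    have hQ'c : Q'.comap (Ideal.Quotient.mk J) = Q.asIdeal := by
      rw [Ideal.comap_map_quotientMk, sup_eq_right.2 (hJP.trans hPQ)]
    haveI : Q'.LiesOver q' := ⟨by
      ext x
      obtain ⟨x, rfl⟩ := Ideal.Quotient.mk_surjective x
      show Ideal.Quotient.mk p.asIdeal x ∈ q' ↔ Ideal.Quotient.mk J (algebraMap A B x) ∈ Q'
      rw [← Ideal.mem_comap, ← Ideal.mem_comap (f := Ideal.Quotient.mk J), hQ'c,
        Ideal.comap_map_quotientMk, sup_eq_right.2 hpq]
      exact Iff.rfl⟩
    haveI := flat_quotient (B := B) p.asIdeal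
    have hup : q'.height ≤ Q'.height := by
      rw [Ideal.height_eq_height_add_of_liesOver_of_hasGoingDown q' Q']
      exact le_self_add
    have hadd := height_le_add (Catenary.isCatenary_of_surjective _ Ideal.Quotient.mk_surjective hB)
      (heq p.asIdeal (Ideal.Quotient.nontrivial_iff.1 inferInstance)) P' Q' (Ideal.map_mono hPQ)
    have hP'f : P'.height ≤ LocCoh.depth (EGA4.FibLocRing A B P.asIdeal) (EGA4.FibLocRing A B P.asIdeal) := by
      have h := dim_fibLocRing (A := A) P.asIdeal P' (by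
        show (P.asIdeal.map (Ideal.Quotient.mk J)).comap (Ideal.Quotient.mk J) = _
        rw [Ideal.comap_map_quotientMk, sup_eq_right.2 hJP])
      rw [hf, ← WithBot.coe_natCast, WithBot.coe_inj] at h
      rw [← h]; exact hS
    have hQP : (Q'.map (Ideal.Quotient.mk P')).height ≤ (Q.asIdeal.map (Ideal.Quotient.mk P.asIdeal)).height := by
      refine le_of_eq ?_
      let e := DoubleQuot.quotQuotEquivQuotOfLE hJP
      rw [← RingEquiv.height_map e]
      congr 1
      show ((Q.asIdeal.map (Ideal.Quotient.mk J)).map (Ideal.Quotient.mk P')).map e.toRingHom = _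
      rw [Ideal.map_map, Ideal.map_map]
      rfl
    exact hup.trans (hadd.trans (add_le_add hP'f hQP))

end Groth.Agent.CutoffCpl
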