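import Groth.Agent.CutoffCpl.Basic
import Groth.Agent.Cohen.Completion
import Groth.Agent.Cohen.Structure
import Groth.Agent.HTLib.Main
import Groth.Agent.HTLib.Annihilator
import Groth.Agent.LocH.FiniteH
import Groth.Agent.S0376
import Groth.Agent.S11617

/-!
Completion and localisation of the invariant `cutoff`, and the finiteness theorem.
-/

set_option autoImplicit false
set_option linter.style.haveILetI false
universe u

open CategoryTheory IsLocalRing TensorProduct

attribute [local instance] HasDerivedCategory.standard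

set_option backward.isDefEq.respectTransparency false

namespace Groth.Agent.CutoffCpl

noncomputable section

theorem cutoff_congr {A : Type u} [CommRing A] (I : Ideal A) {M N : Type u} [AddCommGroup M] [Module A M]
    [AddCommGroup N] [Module A N] (e : M ≃ₗ[A] N) : Dual2.cutoff A I M = Dual2.cutoff A I N := by
  simp only [Dual2.cutoff]
  refine iInf_congr fun p => iInf_congr fun q => iInf_congr fun h => iInf_congr fun _ => iInf_congr fun _ => ?_
  refine congrArg (· + _) ?_
  exact LocH.idealDepth_congr (IsLocalizedModule.mapEquiv p.asIdeal.primeCompl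
    (LocalizedModule.mkLinearMap p.asIdeal.primeCompl M) (LocalizedModule.mkLinearMap p.asIdeal.primeCompl N)
    (Localization.AtPrime p.asIdeal) e) _

section Completion

variable (A : Type u) [CommRing A] [IsLocalRing A] [IsNoetherianRing A]

theorem faithfullyFlat_cpl : Module.FaithfullyFlat A (EGA4.Cpl A) :=
  Module.FaithfullyFlat.of_flat_of_isLocalHom

theorem catenary_cpl : CAlg.IsCatenary (EGA4.Cpl A) :=
  haveI : IsNoetherianRing (EGA4.Cpl A) := AdicBasics.isNoetherianRing_completion A
  Catenary.isCatenary_of_isUniversallyCatenary (Cohen.isUniversallyCatenary_of_complete _)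

variable {A}

theorem equidim_cpl_quotient (hA : CAlg.IsUniversallyCatenary A) (p : Ideal A) [p.IsPrime] :
    EGA4.IsEquidim (EGA4.Cpl A ⧸ p.map (algebraMap A (EGA4.Cpl A))) := by
  haveI : Nontrivial (A ⧸ p) := Ideal.Quotient.nontrivial_iff.mpr (Ideal.IsPrime.ne_top ‹_›)
  obtain ⟨e⟩ := Cohen.exists_quotient_equiv (Ideal.Quotient.mk p) Ideal.Quotient.mk_surjective
  exact Cohen.isEquidim_of_ringEquiv ((Ideal.quotEquivOfEq (by rw [Ideal.mk_ker])).trans e).symm
    (Cohen.isFormallyCatenary_of_universallyCatenary hA p)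

theorem cutoff_cpl_le (I : Ideal A) (M : Type u) [AddCommGroup M] [Module A M] [Module.Finite A M] :
    Dual2.cutoff (EGA4.Cpl A) (I.map (algebraMap A (EGA4.Cpl A))) (EGA4.Cpl A ⊗[A] M) ≤ Dual2.cutoff A I M :=
  haveI := faithfullyFlat_cpl A
  haveI : IsNoetherianRing (EGA4.Cpl A) := AdicBasics.isNoetherianRing_completion A
  cutoff_le M I

theorem min_le_cutoff_cpl (hA : CAlg.IsUniversallyCatenary A) (I : Ideal A) (M : Type u) [AddCommGroup M]
    [Module A M] [Module.Finite A M] (n : ℕ) (hn : EGA4.HasSnFormalFibres n A) :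
    min ((n : ℕ∞) + 1) (Dual2.cutoff A I M) ≤
      Dual2.cutoff (EGA4.Cpl A) (I.map (algebraMap A (EGA4.Cpl A))) (EGA4.Cpl A ⊗[A] M) :=
  haveI : IsNoetherianRing (EGA4.Cpl A) := AdicBasics.isNoetherianRing_completion A
  min_le_cutoff M I (catenary_cpl A) n hn fun p _ _ => equidim_cpl_quotient hA p

theorem sn_of_cm (hF : EGA4.HasCMFormalFibres A) (n : ℕ) : EGA4.HasSnFormalFibres n A := by
  intro p _
  haveI := hF p
  refine (FlatDepth.hasSk_iff_condS n _).2 fun q _ => ?_
  haveI := (hF p).isCohenMacaulayLocalRing_localization q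
  unfold FlatDepth.CondS
  rw [← Module.supportDim_self_eq_ringKrullDim,
    LocCoh.IsCohenMacaulayLocalRing.supportDim_eq_depth (R := Localization.AtPrime q)]
  exact min_le_right _ _

theorem cutoff_cpl_eq (hA : CAlg.IsUniversallyCatenary A) (hF : EGA4.HasCMFormalFibres A) (I : Ideal A)
    (M : Type u) [AddCommGroup M] [Module A M] [Module.Finite A M] :
    Dual2.cutoff (EGA4.Cpl A) (I.map (algebraMap A (EGA4.Cpl A))) (EGA4.Cpl A ⊗[A] M) = Dual2.cutoff A I M := by
  refine le_antisymm (cutoff_cpl_le I M) (ENat.forall_natCast_le_iff_le.1 fun m hm => ?_)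
  exact (le_min le_self_add hm).trans (min_le_cutoff_cpl hA I M m (sn_of_cm hF m))

end Completion

section Dualizing

variable {B : Type u} [CommRing B] [IsNoetherianRing B] {ω : Dual.D B} (hω : Dual.IsDualizing B ω)

theorem krullDim_Icc_eq {p q : PrimeSpectrum B} (h : p ≤ q) :
    Order.krullDim (Set.Icc p q) = ((Order.height (⟨q, h⟩ : Set.Ici p) : ℕ∞) : WithBot ℕ∞) := by
  rw [Order.height_eq_krullDim_Iic]
  exact Order.krullDim_eq_of_orderIso
    { toFun := fun r => ⟨⟨r.1, r.2.1⟩, r.2.2⟩
      invFun := fun r => ⟨r.1.1, r.1.2, r.2⟩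
      left_inv := fun _ => rfl
      right_inv := fun _ => rfl
      map_rel_iff' := Iff.rfl }

include hω in
theorem finite_H_iff_of_dualizing (J : Ideal B) (N : Type u) [AddCommGroup N] [Module B N] [Module.Finite B N] (s : ℕ) :
    (∀ i, i ≤ s → Module.Finite B (LocCoh.H J i N)) ↔ (s : ℕ∞) < Dual2.cutoff B J N := by
  let T : Set (PrimeSpectrum B) := PrimeSpectrum.zeroLocus (J : Set B)
  have hT : StableUnderSpecialization T := (PrimeSpectrum.isClosed_zeroLocus _).stableUnderSpecialization
  constructor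
  · intro hfin
    have hHT : ∀ i, i ≤ s → Module.Finite B (Dual2.HT T i N) := fun i hi => by
      haveI := hfin i hi
      refine Module.Finite.of_surjective (HTLib.theta J (T := T) (subset_refl _) i (ModuleCat.of B N)) fun x => ?_
      obtain ⟨K, hK, y, rfl⟩ := HTLib.exists_theta i (ModuleCat.of B N) x
      obtain ⟨m, hm⟩ := Ideal.exists_pow_le_of_le_radical_of_fg (I := J) (J := K)
        (PrimeSpectrum.zeroLocus_subset_zeroLocus_iff _ _ |>.1 hK) (IsNoetherian.noetherian J)
      have hle : J ^ (m + 1) ≤ K := (Ideal.pow_le_pow_right m.le_succ).trans hm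
      have hleJ : J ^ (m + 1) ≤ J := Ideal.pow_le_self m.succ_ne_zero
      have hKT : PrimeSpectrum.zeroLocus ((J ^ (m + 1) : Ideal B) : Set B) ⊆ T := fun q hq =>
        q.isPrime.le_of_pow_le (n := m + 1) hq
      obtain ⟨w, hw⟩ := LocH.HmapOfLE_surjective_of_vanish hleJ (injectiveResolution (ModuleCat.of B N)) i
        (fun q hq h1 h2 => absurd (hq.le_of_pow_le h1) h2) ((Dual2.HmapOfLE hle i).app _ y)
      refine ⟨w, ?_⟩
      rw [← HTLib.theta_HmapOfLE J (subset_refl _) hKT hleJ i _ w, hw, HTLib.theta_HmapOfLE]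
    obtain ⟨J', hJ', hk⟩ := HTLib.exists_killer N s hHT
    rw [← ENat.add_one_le_iff (ENat.natCast_ne_top s)]
    simp only [Dual2.cutoff, le_iInf_iff]
    intro p q hpq hp hq
    rw [ENat.add_one_le_iff (ENat.natCast_ne_top s)]
    have h := (HTLib.cond_iff hω N hpq s).2 (HTLib.cond_of_killed hω N hT s hJ' hk hp hq hpq)
    rw [krullDim_Icc_eq hpq, ← WithBot.coe_natCast, ← WithBot.coe_add, WithBot.coe_lt_coe] at h
    exact h
  · intro hs
    obtain ⟨J', hJ', hk⟩ := HTLib.exists_killer_of_van hω N (T := T) hT s fun p q hp hq hpq =>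
      (HTLib.cond_iff hω N hpq s).1 (by
        rw [krullDim_Icc_eq hpq, ← WithBot.coe_natCast, ← WithBot.coe_add, WithBot.coe_lt_coe]
        exact hs.trans_le (iInf_le_of_le p (iInf_le_of_le q (iInf_le_of_le hpq (iInf_le_of_le hp
          (iInf_le_of_le hq le_rfl))))))
    obtain ⟨k, hk'⟩ := Ideal.exists_pow_le_of_le_radical_of_fg (I := J) (J := J')
      (PrimeSpectrum.zeroLocus_subset_zeroLocus_iff _ _ |>.1 hJ') (IsNoetherian.noetherian J)
    exact LocH.finite_of_killed J N s fun i hi => ⟨k, fun a ha x => hk i hi a (hk' ha) J (subset_refl _) x⟩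

end Dualizing

/-- Functoriality of local cohomology in the module. -/
def HCongr {A : Type u} [CommRing A] (I : Ideal A) (i : ℕ) {M N : Type u} [AddCommGroup M] [Module A M]
    [AddCommGroup N] [Module A N] (e : M ≃ₗ[A] N) : LocCoh.H I i M ≃ₗ[A] LocCoh.H I i N :=
  ((localCohomology I i).mapIso e.toModuleIso).toLinearEquiv

/-- The finiteness theorem for a local ring. -/
theorem finite_iff_local (A : Type u) [CommRing A] [IsLocalRing A] [IsNoetherianRing A]
    (hA : CAlg.IsUniversallyCatenary A) (hF : EGA4.HasCMFormalFibres A) (I : Ideal A) (M : Type u)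
    [AddCommGroup M] [Module A M] [Module.Finite A M] (s : ℕ) :
    (∀ i, i ≤ s → Module.Finite A (LocCoh.H I i M)) ↔ (s : ℕ∞) < Dual2.cutoff A I M := by
  haveI := faithfullyFlat_cpl A
  haveI : IsNoetherianRing (EGA4.Cpl A) := AdicBasics.isNoetherianRing_completion A
  obtain ⟨ω, hω⟩ := S0376.result (EGA4.Cpl A)
  rw [← cutoff_cpl_eq hA hF I M, ← finite_H_iff_of_dualizing hω]
  refine forall₂_congr fun i _ => ?_
  obtain ⟨e⟩ := S11617.result A (EGA4.Cpl A) I M i
  exact ⟨fun h => Module.Finite.equiv e, fun h => by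
    haveI : Module.Finite (EGA4.Cpl A) (EGA4.Cpl A ⊗[A] LocCoh.H I i M) := Module.Finite.equiv e.symm
    exact Module.Finite.of_finite_tensorProduct_of_faithfullyFlat (EGA4.Cpl A)⟩

section Global

variable {A : Type u} [CommRing A] [IsNoetherianRing A] (I : Ideal A) (M : Type u) [AddCommGroup M] [Module A M]
  [Module.Finite A M]

/-- The invariant does not decrease on localisation, and the terms at pairs below `q` are all seen there. -/
theorem lt_cutoff_localization_iff (s : ℕ) (q₀ : PrimeSpectrum A) :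
    (s : ℕ∞) < Dual2.cutoff (Localization.AtPrime q₀.asIdeal) (I.map (algebraMap A (Localization.AtPrime q₀.asIdeal)))
        (Localization.AtPrime q₀.asIdeal ⊗[A] M) ↔
      ∀ (p q : PrimeSpectrum A) (h : p ≤ q), ¬ I ≤ p.asIdeal → I ≤ q.asIdeal → q ≤ q₀ →
        (s : ℕ∞) < LocCoh.depth (Localization.AtPrime p.asIdeal) (LocalizedModule p.asIdeal.primeCompl M) +
          Order.height (⟨q, h⟩ : Set.Ici p) := by
  let R := Localization.AtPrime q₀.asIdeal
  haveI : Module.Flat A R := IsLocalization.flat R q₀.asIdeal.primeCompl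
  haveI : IsNoetherianRing R := IsLocalization.isNoetherianRing q₀.asIdeal.primeCompl _ inferInstance
  let E := IsLocalization.AtPrime.primeSpectrumOrderIso R q₀.asIdeal
  have hterm : ∀ (P Q : PrimeSpectrum R) (hPQ : P ≤ Q) (p q : PrimeSpectrum A) (h : p ≤ q)
      (_ : P.asIdeal.comap (algebraMap A R) = p.asIdeal) (_ : Q.asIdeal.comap (algebraMap A R) = q.asIdeal),
      LocCoh.depth (Localization.AtPrime P.asIdeal) (LocalizedModule P.asIdeal.primeCompl (R ⊗[A] M)) +
          Order.height (⟨Q, hPQ⟩ : Set.Ici P) =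
        LocCoh.depth (Localization.AtPrime p.asIdeal) (LocalizedModule p.asIdeal.primeCompl M) +
          Order.height (⟨q, h⟩ : Set.Ici p) := by
    intro P Q hPQ p q h hP hQ
    haveI := FlatDepth.isLocalRing_fibLocRing (A := A) P.asIdeal
    have hd0 : LocCoh.depth (EGA4.FibLocRing A R P.asIdeal) (EGA4.FibLocRing A R P.asIdeal) = 0 := by
      have hd := depth_le_dim (T := EGA4.FibLocRing A R P.asIdeal)
      rw [FlatDepth.ringKrullDim_fibLocRing_eq_zero P.asIdeal ⟨⟨P.2, Ideal.map_comap_le⟩, fun T hT _ => by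
        rw [← IsLocalization.map_comap q₀.asIdeal.primeCompl R P.asIdeal]; exact hT.2⟩] at hd
      exact nonpos_iff_eq_zero.1 (by exact_mod_cast hd)
    rw [depth_baseChange M P.asIdeal p.asIdeal hP, hd0, add_zero]
    congr 1
    refine WithBot.coe_injective ?_
    rw [← krullDim_Icc_eq hPQ, ← krullDim_Icc_eq h]
    have hmono : ∀ {Z W : PrimeSpectrum R}, Z ≤ W → (E Z).1 ≤ (E W).1 := fun hZW => E.monotone hZW
    have hEP : (E P).1 = p := PrimeSpectrum.ext hP
    have hEQ : (E Q).1 = q := PrimeSpectrum.ext hQ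
    have hq₀ : q ≤ q₀ := hEQ ▸ (E Q).2
    exact Order.krullDim_eq_of_orderIso
      { toFun := fun Z => ⟨(E Z.1).1, hEP ▸ hmono Z.2.1, hEQ ▸ hmono Z.2.2⟩
        invFun := fun z => ⟨E.symm ⟨z.1, z.2.2.trans hq₀⟩,
          E.le_symm_apply.2 (show (E P).1 ≤ z.1 from hEP ▸ z.2.1),
          E.symm_apply_le.2 (show z.1 ≤ (E Q).1 from hEQ ▸ z.2.2)⟩
        left_inv := fun Z => Subtype.ext (E.symm_apply_apply Z.1)
        right_inv := fun z => Subtype.ext (congrArg Subtype.val (E.apply_symm_apply ⟨z.1, z.2.2.trans hq₀⟩) :)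
        map_rel_iff' := fun {Z W} => (E.le_iff_le (x := Z.1) (y := W.1)) }
  constructor
  · intro hs p q h hp hq hq0
    let P := E.symm ⟨p, h.trans hq0⟩
    let Q := E.symm ⟨q, hq0⟩
    have hP : P.asIdeal.comap (algebraMap A R) = p.asIdeal :=
      congrArg (fun z : Set.Iic q₀ => z.1.asIdeal) (E.apply_symm_apply ⟨p, h.trans hq0⟩)
    have hQ : Q.asIdeal.comap (algebraMap A R) = q.asIdeal :=
      congrArg (fun z : Set.Iic q₀ => z.1.asIdeal) (E.apply_symm_apply ⟨q, hq0⟩)
    have hPQ : P ≤ Q := E.symm.monotone (show (⟨p, h.trans hq0⟩ : Set.Iic q₀) ≤ ⟨q, hq0⟩ from h)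
    rw [← hterm P Q hPQ p q h hP hQ]
    refine hs.trans_le (iInf_le_of_le P (iInf_le_of_le Q (iInf_le_of_le hPQ (iInf_le_of_le ?_
      (iInf_le_of_le ?_ le_rfl)))))
    · exact fun hle => hp (hP ▸ Ideal.map_le_iff_le_comap.1 hle)
    · exact Ideal.map_le_iff_le_comap.2 (hQ.symm ▸ hq)
  · intro hall
    rw [← ENat.add_one_le_iff (ENat.natCast_ne_top s)]
    simp only [Dual2.cutoff, le_iInf_iff]
    intro P Q hPQ hP hQ
    rw [ENat.add_one_le_iff (ENat.natCast_ne_top s), hterm P Q hPQ (E P).1 (E Q).1 (E.monotone hPQ) rfl rfl]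
    exact hall _ _ _ (fun hle => hP (Ideal.map_le_iff_le_comap.2 hle)) (Ideal.map_le_iff_le_comap.1 hQ) (E Q).2

/-- Finiteness is local on the spectrum, one degree at a time. -/
theorem finite_of_local (t : ℕ) (hlow : ∀ i, i < t → Module.Finite A (LocCoh.H I i M))
    (hloc : ∀ q : PrimeSpectrum A,
      Module.Finite (Localization.AtPrime q.asIdeal) (LocCoh.H (I.map (algebraMap A (Localization.AtPrime q.asIdeal))) t
        (Localization.AtPrime q.asIdeal ⊗[A] M))) :
    Module.Finite A (LocCoh.H I t M) := by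
  classical
  let H := LocCoh.H I t M
  let S := Submodule.torsionBySet A H (I : Set A)
  haveI : Module.Finite A S := Module.Finite.iff_fg.2 (LocH.fg_socle I t M hlow)
  have hass : (associatedPrimes A H).Finite := by
    refine (associatedPrimes.finite A S).subset fun p hp => ?_
    obtain ⟨hpp, x, hx⟩ := isAssociatedPrime_iff.1 hp
    obtain ⟨n, hn⟩ := LocH.isPowerTorsion I t (ModuleCat.of A M) x
    have hIp : I ≤ p := hpp.le_of_pow_le fun a ha => by
      rw [hx, Submodule.mem_colon_singleton, Submodule.mem_bot]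
      exact hn a ha
    refine isAssociatedPrime_iff.2 ⟨hpp, ⟨x, (Submodule.mem_torsionBySet_iff _ _).2 fun a => ?_⟩, ?_⟩
    · have := hIp a.2
      rw [hx, Submodule.mem_colon_singleton, Submodule.mem_bot] at this
      exact this
    · ext a
      refine (SetLike.ext_iff.1 hx a).trans ?_
      rw [Submodule.mem_colon_singleton, Submodule.mem_colon_singleton, Submodule.mem_bot, Submodule.mem_bot,
        ← Subtype.coe_inj]
      rfl
  have hkill : ∀ q : PrimeSpectrum A, ∃ k : ℕ, ∀ a ∈ I ^ k, ∀ x : H, ∃ u ∉ q.asIdeal, u • a • x = 0 := fun q => by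
    let R := Localization.AtPrime q.asIdeal
    haveI : Module.Flat A R := IsLocalization.flat R q.asIdeal.primeCompl
    haveI : IsNoetherianRing R := IsLocalization.isNoetherianRing q.asIdeal.primeCompl _ inferInstance
    obtain ⟨e⟩ := S11617.result A R I M t
    haveI := hloc q
    obtain ⟨k, hk⟩ := LocH.exists_pow_killed_of_finite (I.map (algebraMap A R)) t (ModuleCat.of R (R ⊗[A] M))
    refine ⟨k, fun a ha x => ?_⟩
    have h0 : TensorProduct.mk A R H 1 (a • x) = 0 := by
      refine e.injective ?_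
      rw [map_zero, LinearMap.map_smul, ← algebraMap_smul R a, map_smul]
      exact hk _ (by rw [← Ideal.map_pow]; exact Ideal.mem_map_of_mem _ ha) _
    haveI : IsLocalizedModule q.asIdeal.primeCompl (TensorProduct.mk A R H 1) :=
      (isLocalizedModule_iff_isBaseChange q.asIdeal.primeCompl R _).2 (TensorProduct.isBaseChange A H R)
    obtain ⟨u, hu⟩ := (IsLocalizedModule.eq_zero_iff q.asIdeal.primeCompl _).1 h0
    exact ⟨u, u.2, hu⟩
  choose k hk using hkill
  let K := hass.toFinset.sup fun p => if h : p.IsPrime then k ⟨p, h⟩ else 0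
  refine LocH.finite_of_killed I M t (fun i hi => ?_) t le_rfl
  rcases Nat.lt_or_eq_of_le hi with hi' | rfl
  · haveI := hlow i hi'
    exact LocH.exists_pow_killed_of_finite I i (ModuleCat.of A M)
  refine ⟨K, fun a ha x => ?_⟩
  by_contra hne
  obtain ⟨p, hp, hle⟩ := exists_le_isAssociatedPrime_of_isNoetherianRing (R := A) (a • x) hne
  have hpp := (isAssociatedPrime_iff.1 hp).1
  have hkK : k ⟨p, hpp⟩ ≤ K := by
    refine le_trans (le_of_eq ?_)
      (Finset.le_sup (f := fun p => if h : p.IsPrime then k ⟨p, h⟩ else 0) (hass.mem_toFinset.2 hp))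
    simp [hpp]
  obtain ⟨u, hu, hux⟩ := hk ⟨p, hpp⟩ a (Ideal.pow_le_pow_right hkK ha) x
  exact hu (hle (by rw [Submodule.mem_colon_singleton, Submodule.mem_bot]; exact hux))

/-- The finiteness theorem. -/
theorem finite_iff (hA : CAlg.IsUniversallyCatenary A)
    (hF : ∀ q : PrimeSpectrum A, EGA4.HasCMFormalFibres (Localization.AtPrime q.asIdeal)) (s : ℕ) :
    (∀ i, i ≤ s → Module.Finite A (LocCoh.H I i M)) ↔ (s : ℕ∞) < Dual2.cutoff A I M := by
  have hloc : ∀ q : PrimeSpectrum A, ∀ s : ℕ,
      (∀ i, i ≤ s → Module.Finite (Localization.AtPrime q.asIdeal)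
        (LocCoh.H (I.map (algebraMap A (Localization.AtPrime q.asIdeal))) i (Localization.AtPrime q.asIdeal ⊗[A] M))) ↔
      (s : ℕ∞) < Dual2.cutoff (Localization.AtPrime q.asIdeal) (I.map (algebraMap A (Localization.AtPrime q.asIdeal)))
        (Localization.AtPrime q.asIdeal ⊗[A] M) := fun q s =>
    haveI : IsNoetherianRing (Localization.AtPrime q.asIdeal) :=
      IsLocalization.isNoetherianRing q.asIdeal.primeCompl _ inferInstance
    finite_iff_local _ (Catenary.isUniversallyCatenary_of_isLocalization q.asIdeal.primeCompl _ hA) (hF q) _ _ s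
  constructor
  · intro hfin
    rw [← ENat.add_one_le_iff (ENat.natCast_ne_top s)]
    simp only [Dual2.cutoff, le_iInf_iff]
    intro p q h hp hq
    rw [ENat.add_one_le_iff (ENat.natCast_ne_top s)]
    refine (lt_cutoff_localization_iff I M s q).1 ((hloc q s).1 fun i hi => ?_) p q h hp hq le_rfl
    let R := Localization.AtPrime q.asIdeal
    haveI : Module.Flat A R := IsLocalization.flat R q.asIdeal.primeCompl
    haveI : IsNoetherianRing R := IsLocalization.isNoetherianRing q.asIdeal.primeCompl _ inferInstance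
    obtain ⟨e⟩ := S11617.result A R I M i
    haveI := hfin i hi
    exact Module.Finite.equiv e
  · intro hs i
    induction i using Nat.strong_induction_on with
    | _ i ih =>
      intro hi
      refine finite_of_local I M i (fun j hj => ih j hj (by omega)) fun q => ?_
      refine (hloc q s).2 ((lt_cutoff_localization_iff I M s q).2 fun p q' h hp hq _ => ?_) i hi
      exact hs.trans_le (iInf_le_of_le p (iInf_le_of_le q' (iInf_le_of_le h (iInf_le_of_le hp
        (iInf_le_of_le hq le_rfl)))))

end Global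

end

end Groth.Agent.CutoffCpl
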